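import Groth.Agent.Lib.Depth.HartogsUnit
import Groth.Agent.Lib.DepthFlat.Basic
import Groth.Agent.Lib.Depth.CM
import Groth.Agent.Lib.RamSam.GrFree
import Groth.Agent.Lib.LocFree8.Basic
import Groth.Agent.Lib.QuasiFlat.Basic
import Groth.Agent.Lib.Euler.Coh
import Groth.Agent.Lib.FlatBC.TrivialDesc
import Groth.Agent.Lib.ParaPair.Descent
import Groth.Agent.Lib.Ample.RelAmple
import Groth.Agent.Lib.Cube.Pic

/-!
# Extensions of invertible modules across points of depth two
-/

set_option autoImplicit false
set_option linter.all false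
set_option backward.isDefEq.respectTransparency false

universe u

open CategoryTheory CategoryTheory.Limits AlgebraicGeometry TopologicalSpace Opposite TensorProduct

noncomputable section

namespace GrothLib.ExtDesc2

variable {X : Scheme.{u}}

theorem isInvertible_pullback_ι_of_iso {M N : X.Modules} (e : M ≅ N) (h : PicF.IsInvertible M) :
    PicF.IsInvertible N := ParaPair.isInvertible_of_iso e.symm h

/-- An invertible module is the direct image of its restriction across points of depth two. -/
theorem isIso_unit_of_depth [IsLocallyNoetherian X] {M : X.Modules} (hM : PicF.IsInvertible M) {U : X.Opens}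
    (hU : ∀ x : X, x ∉ U → (2 : ℕ∞) ≤ LocCoh.depth (X.presheaf.stalk x) (X.presheaf.stalk x)) :
    IsIso ((Scheme.Modules.restrictAdjunction U.ι).unit.app M) := by
  have hE := Euler.isFinLocFree_of_isInvertible hM
  haveI := Euler.isQuasicoherent_of_isFinLocFree hE
  haveI : M.IsFiniteType := (Euler.isCoh_of_isFinLocFree hE).2
  refine Depth.isIso_unit_app fun x hx => ?_
  haveI : Module.Free (X.presheaf.stalk x) (M.presheaf.stalk x) := ((LocFree8.isFinLocFree_iff_fp_free M).1 hE).2 x
  haveI := QuasiFlat.finite_stalk M (Euler.isCoh_of_isFinLocFree hE) x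
  exact RamSam.le_depth_of_free (n := 2) (hU x hx) _

/-- Depth does not drop along a flat local homomorphism. -/
theorem depth_le_of_flat {W : Scheme.{u}} [IsLocallyNoetherian X] [IsLocallyNoetherian W] (g : W ⟶ X) [Flat g] (w : W) :
    LocCoh.depth (X.presheaf.stalk (g w)) (X.presheaf.stalk (g w)) ≤
      LocCoh.depth (W.presheaf.stalk w) (W.presheaf.stalk w) := by
  letI := (g.stalkMap w).hom.toAlgebra
  haveI : IsLocalHom (algebraMap (X.presheaf.stalk (g w)) (W.presheaf.stalk w)) :=
    inferInstanceAs (IsLocalHom (g.stalkMap w).hom)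
  haveI : Module.Flat (X.presheaf.stalk (g w)) (W.presheaf.stalk w) := Flat.stalkMap g w
  have h := DepthFlat.depth_tensor (R := X.presheaf.stalk (g w)) (S := W.presheaf.stalk w)
    (N := W.presheaf.stalk w) (M := X.presheaf.stalk (g w))
  rw [show LocCoh.depth (W.presheaf.stalk w) (W.presheaf.stalk w ⊗[X.presheaf.stalk (g w)] X.presheaf.stalk (g w)) =
      LocCoh.depth (W.presheaf.stalk w) (W.presheaf.stalk w) from
    Depth.idealDepth_eq_of_equiv _ (TensorProduct.AlgebraTensorModule.rid (X.presheaf.stalk (g w))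
      (W.presheaf.stalk w) (W.presheaf.stalk w))] at h
  exact le_self_add.trans h.ge

/-- The counit of the restriction to an open. -/
theorem nonempty_pullback_pushforward_iso (V : X.Opens) (L : (V : Scheme.{u}).Modules) :
    Nonempty ((Scheme.Modules.pullback V.ι).obj ((Scheme.Modules.pushforward V.ι).obj L) ≅ L) := by
  exact ⟨((Scheme.Modules.restrictFunctorIsoPullback V.ι).app _).symm ≪≫
    asIso ((Scheme.Modules.restrictAdjunction V.ι).counit.app L)⟩

/-- The direct image of an invertible module on a big open is invertible on the image of a flat morphism on which it extends. -/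
theorem isInvertible_pullback_pushforward {W : Scheme.{u}} [IsLocallyNoetherian X] [IsLocallyNoetherian W]
    (g : W ⟶ X) [Flat g] (V : X.Opens)
    (hV : ∀ x : X, x ∉ V → x ∈ Set.range g → (2 : ℕ∞) ≤ LocCoh.depth (X.presheaf.stalk x) (X.presheaf.stalk x))
    (L : (V : Scheme.{u}).Modules) (hL : PicF.IsInvertible L) (M : W.Modules) (hM : PicF.IsInvertible M)
    (e : (Scheme.Modules.pullback (g ⁻¹ᵁ V).ι).obj M ≅ (Scheme.Modules.pullback (g ∣_ V)).obj L) :
    PicF.IsInvertible ((Scheme.Modules.pullback g).obj ((Scheme.Modules.pushforward V.ι).obj L)) := by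
  have H : IsPullback (g ∣_ V) (g ⁻¹ᵁ V).ι V.ι g := (isPullback_morphismRestrict g V)
  haveI := FlatBC.qcoh_of_invertible hL
  haveI := FlatBC.isIso_bcMap H L
  haveI := isIso_unit_of_depth hM (U := g ⁻¹ᵁ V) fun w hw =>
    (hV (g w) hw ⟨w, rfl⟩).trans (depth_le_of_flat g w)
  refine ParaPair.isInvertible_of_iso ?_ hM
  exact asIso (AffBC.bcMap H L) ≪≫ (Scheme.Modules.pushforward (g ⁻¹ᵁ V).ι).mapIso
      (e.symm ≪≫ ((Scheme.Modules.restrictFunctorIsoPullback (g ⁻¹ᵁ V).ι).app M).symm) ≪≫
    (asIso ((Scheme.Modules.restrictAdjunction (g ⁻¹ᵁ V).ι).unit.app M)).symm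

/-- Extension along a flat quasi-compact neighbourhood of the missing points. -/
theorem isInvertible_pushforward_of_flat_nhd {W : Scheme.{u}} [IsLocallyNoetherian X] [IsLocallyNoetherian W]
    (g : W ⟶ X) [Flat g] [LocallyOfFinitePresentation g] [QuasiCompact g] (V : X.Opens)
    (hcov : ∀ x : X, x ∉ V → x ∈ Set.range g)
    (hV : ∀ x : X, x ∉ V → (2 : ℕ∞) ≤ LocCoh.depth (X.presheaf.stalk x) (X.presheaf.stalk x))
    (L : (V : Scheme.{u}).Modules) (hL : PicF.IsInvertible L) (M : W.Modules) (hM : PicF.IsInvertible M)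
    (e : (Scheme.Modules.pullback (g ⁻¹ᵁ V).ι).obj M ≅ (Scheme.Modules.pullback (g ∣_ V)).obj L) :
    PicF.IsInvertible ((Scheme.Modules.pushforward V.ι).obj L) := by
  let N := (Scheme.Modules.pushforward V.ι).obj L
  have hg := isInvertible_pullback_pushforward g V (fun x hx _ => hV x hx) L hL M hM e
  let O : X.Opens := ⟨Set.range g, g.isOpenMap.isOpen_range⟩
  let h : W ⟶ (O : Scheme.{u}) := IsOpenImmersion.lift O.ι g (by rw [Scheme.Opens.range_ι]; exact subset_rfl)
  have hh : h ≫ O.ι = g := IsOpenImmersion.lift_fac _ _ _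
  haveI : Flat h := by
    have : Flat (h ≫ O.ι) := by rw [hh]; infer_instance
    exact MorphismProperty.of_postcomp (W := @Flat) (W' := @IsOpenImmersion) h O.ι inferInstance this
  haveI : QuasiCompact h := by
    have : QuasiCompact (h ≫ O.ι) := by rw [hh]; infer_instance
    exact QuasiCompact.of_comp h O.ι
  haveI : Surjective h := ⟨fun z => by
    obtain ⟨w, hw⟩ := z.2
    exact ⟨w, Subtype.ext (by rw [← hw, ← hh]; rfl)⟩⟩
  haveI := FlatBC.qcoh_of_invertible hL
  haveI : N.IsQuasicoherent := QCoh.isQuasicoherent_pushforward V.ι L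
  have hO : PicF.IsInvertible ((Scheme.Modules.pullback O.ι).obj N) := by
    haveI := FittSheaf.isQuasicoherent_pullback O.ι N
    refine ParaPair.isInvertible_of_pullback h _ (ParaPair.isInvertible_of_iso ?_ hg)
    exact (Scheme.Modules.pullbackComp h O.ι).app N ≪≫ (Scheme.Modules.pullbackCongr hh).app N
  refine Ample.isInvertible_of_restrict (fun b : Bool => if b then V else O) ?_ fun b => ?_
  · refine eq_top_iff.2 fun x _ => Opens.mem_iSup.2 ?_
    by_cases hx : x ∈ V
    · exact ⟨true, hx⟩
    · exact ⟨false, hcov x hx⟩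
  · cases b
    · exact ParaPair.isInvertible_of_iso ((Scheme.Modules.restrictFunctorIsoPullback O.ι).app N) hO
    · obtain ⟨i⟩ := nonempty_pullback_pushforward_iso V L
      exact ParaPair.isInvertible_of_iso ((Scheme.Modules.restrictFunctorIsoPullback V.ι).app N ≪≫ i) hL

end GrothLib.ExtDesc2
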